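import Groth.Agent.FreeVan98.Local
import Groth.Agent.QcqsColim.Rpush
import Mathlib.CategoryTheory.Abelian.GrothendieckCategory.Subobject
import Mathlib.CategoryTheory.Abelian.GrothendieckCategory.Monomorphisms
import Mathlib.Data.Finset.Order

/-!
# Cohomological vanishing from vanishing on `j_! ℤ_U`
-/

set_option autoImplicit false

universe u

open CategoryTheory CategoryTheory.Limits Opposite TopologicalSpace

namespace Groth.Agent.FreeVan98

variable {X : TopCat.{u}}

/-- `H^p(X, M) = 0` for `p > d`. -/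
def Van (d : ℕ) (M : CohTop.Ab X) : Prop :=
  ∀ p, d < p → Subsingleton (CohTop.HU M p ⊤)

theorem Van.of_iso {d : ℕ} {M N : CohTop.Ab X} (e : M ≅ N) (h : Van d M) : Van d N := fun p hp =>
  haveI := h p hp
  ((((Sheaf.cohomologyPresheafFunctor (Opens.grothendieckTopology X) p).flip.obj (op ⊤) :
    CohTop.Ab X ⥤ AddCommGrpCat.{u}).mapIso e).addCommGroupIsoToAddEquiv.toEquiv.subsingleton_congr).1
    (h p hp)

theorem Van.ext {d : ℕ} {S : ShortComplex (CohTop.Ab X)} (hS : S.ShortExact) (h₁ : Van d S.X₁)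
    (h₃ : Van d S.X₃) : Van d S.X₂ := fun p hp =>
  SiteBase.subsingleton_HU_X₂ hS ⊤ p (h₁ p hp) (h₃ p hp)

theorem Van.cok {d : ℕ} {S : ShortComplex (CohTop.Ab X)} (hS : S.ShortExact) (h₁ : Van d S.X₁)
    (h₂ : Van d S.X₂) : Van d S.X₃ := fun p hp =>
  SiteBase.subsingleton_HU_X₃ hS ⊤ p (h₁ (p + 1) (hp.trans p.lt_succ_self)) (h₂ p hp)

theorem Van.of_isZero {d : ℕ} {M : CohTop.Ab X} (hM : IsZero M) : Van d M := fun p _ =>
  subsingleton_of_forall_eq 0 fun (x : Abelian.Ext (Z (⊤ : Opens X)) M p) => by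
    rw [← Abelian.Ext.comp_mk₀_id x, hM.eq_of_src (𝟙 M) 0, Abelian.Ext.mk₀_zero, Abelian.Ext.comp_zero]
    rfl

variable {F : CohTop.Ab X}

theorem le_of_kill (K K' : Subobject F)
    (h : ∀ {T : CohTop.Ab X} (g : F ⟶ T), K'.arrow ≫ g = 0 → K.arrow ≫ g = 0) : K ≤ K' :=
  Subobject.le_of_comm (Abelian.monoLift K'.arrow K.arrow (h _ (cokernel.condition _)))
    (Abelian.monoLift_comp _ _ _)

theorem kill_of_le {K K' : Subobject F} (h : K ≤ K') {T : CohTop.Ab X} (g : F ⟶ T)
    (hg : K'.arrow ≫ g = 0) : K.arrow ≫ g = 0 := by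
  rw [← Subobject.ofLE_arrow h, Category.assoc, hg, comp_zero]

/-- The subobject generated by a section. -/
noncomputable abbrev im {V : Opens X} (s : F.obj.obj (op V)) : Subobject F :=
  imageSubobject (hom F s)

theorem app_eq_zero_of_im_le {V : Opens X} (s : F.obj.obj (op V)) {K : Subobject F} (h : im s ≤ K)
    {T : CohTop.Ab X} (g : F ⟶ T) (hg : K.arrow ≫ g = 0) : app g V s = 0 := by
  have e : hom F s ≫ g = 0 := by
    rw [← imageSubobject_arrow_comp (hom F s), Category.assoc, kill_of_le h g hg, comp_zero]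
  rw [hom_comp] at e
  rw [← app_hom_univ T (app g V s), e]; rfl

variable {ι : Type u} (V : ι → Opens X) (s : ∀ i, F.obj.obj (op (V i)))

/-- The subobject generated by finitely many sections. -/
noncomputable def gen (A : Finset ι) : Subobject F := A.sup fun i => im (s i)

theorem exists_epi_sup (K : Subobject F) {Y : CohTop.Ab X} (φ : Y ⟶ F) :
    ∃ π : (K : CohTop.Ab X) ⊞ Y ⟶ ((imageSubobject φ ⊔ K : Subobject F) : CohTop.Ab X),
      Epi π ∧ π ≫ (imageSubobject φ ⊔ K).arrow = biprod.desc K.arrow φ := by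
  have e : imageSubobject (biprod.desc K.arrow φ) = imageSubobject φ ⊔ K := by
    refine le_antisymm (imageSubobject_le _
      (biprod.desc (Subobject.ofLE _ _ le_sup_right)
        (factorThruImageSubobject φ ≫ Subobject.ofLE _ _ le_sup_left)) ?_) (sup_le ?_ ?_)
    · refine biprod.hom_ext' _ _ ?_ ?_ <;> simp
    · exact imageSubobject_le _ (biprod.inr ≫ factorThruImageSubobject _) (by simp)
    · exact Subobject.le_of_comm (biprod.inl ≫ factorThruImageSubobject _) (by simp)
  refine ⟨factorThruImageSubobject (biprod.desc K.arrow φ) ≫ Subobject.ofLE _ _ e.le, ?_, by simp⟩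
  haveI : IsIso (Subobject.ofLE _ _ e.le) :=
    ⟨Subobject.ofLE _ _ e.ge, by simp [Subobject.ofLE_comp_ofLE], by simp [Subobject.ofLE_comp_ofLE]⟩
  exact epi_comp _ _

/-- A subobject which is locally generated by sections has vanishing cohomology as soon as all its
finitely generated pieces do. -/
theorem van_of_gen [PrespectralSpace X] [QuasiSeparatedSpace X] [CompactSpace X] {d : ℕ}
    (K : Subobject F) (hle : ∀ i, im (s i) ≤ K)
    (hcov : ∀ {T : CohTop.Ab X} (g : F ⟶ T), (∀ i, app g (V i) (s i) = 0) → K.arrow ≫ g = 0)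
    (h : ∀ A : Finset ι, Van d (gen V s A : CohTop.Ab X)) : Van d (K : CohTop.Ab X) := by
  classical
  have hmono : Monotone (gen V s) := fun A B hAB => Finset.sup_mono hAB
  let Φ : Finset ι ⥤ MonoOver F := hmono.functor ⋙ Subobject.representative
  let D : Finset ι ⥤ CohTop.Ab X := Φ ⋙ MonoOver.forget _ ⋙ Over.forget _
  haveI : HasColimitsOfShape (Finset ι) (Sheaf (Opens.grothendieckTopology X) AddCommGrpCat.{u}) :=
    inferInstance
  haveI : HasColimit D := HasColimitsOfShape.has_colimit D
  let f : colimit D ⟶ F := colimit.desc D (Cocone.mk F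
    { app := fun A => (Φ.obj A).obj.hom
      naturality := fun A B g => by
        dsimp [D]
        rw [Category.comp_id]
        exact MonoOver.w (Φ.map g) })
  have hf : ∀ A, colimit.ι D A ≫ f = (Φ.obj A).obj.hom := fun A => colimit.ι_desc _ A
  haveI : Mono f :=
    IsGrothendieckAbelian.mono_of_isColimit_monoOver Φ (colimit.isColimit D) f hf
  have hgen : ∀ A, gen V s A ≤ K := fun A => Finset.sup_le fun i _ => hle i
  have eK : Subobject.mk f = K := by
    refine le_antisymm (Subobject.mk_le_of_comm (colimit.desc D (Cocone.mk (K : CohTop.Ab X)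
      { app := fun A => Subobject.ofLE _ _ (hgen A)
        naturality := fun A B g => ?_ })) (colimit.hom_ext fun A => ?_)) (le_of_kill _ _ fun g hg => ?_)
    · dsimp [D]
      rw [Category.comp_id, ← cancel_mono K.arrow, Category.assoc]
      erw [Subobject.ofLE_arrow (hgen B), Subobject.ofLE_arrow (hgen A)]
      exact MonoOver.w (Φ.map g)
    · rw [colimit.ι_desc_assoc, hf]
      exact Subobject.ofLE_arrow (hgen A)
    · refine hcov g fun i => app_eq_zero_of_im_le (s i) ?_ g hg
      refine le_trans (le_trans (Finset.le_sup (f := fun i => im (s i)) (Finset.mem_singleton_self i))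
        (le_of_eq (Subobject.mk_arrow (gen V s {i})).symm)) ?_
      exact Subobject.mk_le_mk_of_comm (colimit.ι D {i}) (hf {i})
  refine Van.of_iso ((Subobject.underlyingIso f).symm ≪≫ Subobject.isoOfEq _ _ eK) fun p hp => ?_
  haveI : IsDirected (Finset ι) (· ≤ ·) := inferInstance
  let H := ((Sheaf.cohomologyPresheafFunctor (Opens.grothendieckTopology X) p).flip.obj (op ⊤) :
    CohTop.Ab X ⥤ AddCommGrpCat.{u})
  haveI : PreservesColimitsOfShape (Finset ι) H :=
    QcqsColim.preservesColimitsOfShape_cohomologyPresheaf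
      (Opens.isBasis_iff_nbhd.2 fun {W x} hx => by
        obtain ⟨B, hB, hxB, hBW⟩ := PrespectralSpace.isTopologicalBasis.exists_subset_of_mem_open
          (show x ∈ (W : Set X) from hx) W.2
        exact ⟨⟨B, hB.1⟩, ⟨hB.2, fun A C _ hA hAc _ hC hCc =>
          QuasiSeparatedSpace.inter_isCompact A C hA hAc hC hCc⟩, hxB, hBW⟩)
      ⟨(isCompact_univ : IsCompact (Set.univ : Set X)),
        fun V W _ hV hVc _ hW hWc => QuasiSeparatedSpace.inter_isCompact V W hV hVc hW hWc⟩ (Finset ι) p
  have hc := isColimitOfPreserves H (colimit.isColimit D)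
  have hz : IsZero (H.obj (colimit D)) := (IsZero.iff_id_eq_zero _).2 (hc.hom_ext fun A => by
    haveI : Subsingleton ((D ⋙ H).obj A : Type u) := h A p hp
    exact (AddCommGrpCat.isZero_of_subsingleton _).eq_of_src _ _)
  exact AddCommGrpCat.subsingleton_of_isZero hz

end Groth.Agent.FreeVan98
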