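import Groth.Agent.CTopVan.Basic
import Groth.Agent.SiteBase.Sections
import Mathlib.Topology.Sheaves.SheafCondition.UniqueGluing
import Mathlib.CategoryTheory.Sites.LocallyInjective
import Mathlib.RingTheory.PrincipalIdealDomain
import Mathlib.RingTheory.Int.Basic

/-!
# Local form of sections of `j_! ℤ_U` and of subsheaves generated by multiples of the unit section
-/

set_option autoImplicit false

universe u

open CategoryTheory CategoryTheory.Limits Opposite TopologicalSpace

namespace Groth.Agent.FreeVan98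

variable {X : TopCat.{u}}

/-- The free abelian sheaf on an open. -/
noncomputable abbrev Z (U : Opens X) : CohTop.Ab X :=
  CohCx.freeSheaf (Opens.grothendieckTopology X) U

/-- Restriction of sections. -/
noncomputable abbrev rest (F : CohTop.Ab X) {W W' : Opens X} (h : W' ≤ W) :
    F.obj.obj (op W) →+ F.obj.obj (op W') := (F.obj.map (homOfLE h).op).hom

/-- A morphism on sections. -/
noncomputable abbrev app {F G : CohTop.Ab X} (f : F ⟶ G) (W : Opens X) :
    F.obj.obj (op W) →+ G.obj.obj (op W) := (f.hom.app (op W)).hom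

theorem rest_rest (F : CohTop.Ab X) {W W' W'' : Opens X} (h : W' ≤ W) (h' : W'' ≤ W')
    (s : F.obj.obj (op W)) : rest F h' (rest F h s) = rest F (h'.trans h) s := by
  show (F.obj.map (homOfLE h).op ≫ F.obj.map (homOfLE h').op).hom s = _
  rw [← F.obj.map_comp]; rfl

theorem rest_self (F : CohTop.Ab X) {W : Opens X} (h : W ≤ W) (s : F.obj.obj (op W)) :
    rest F h s = s := by
  show (F.obj.map (homOfLE h).op).hom s = s
  rw [Subsingleton.elim (homOfLE h).op (𝟙 (op W)), F.obj.map_id]; rfl

theorem app_rest {F G : CohTop.Ab X} (f : F ⟶ G) {W W' : Opens X} (h : W' ≤ W)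
    (s : F.obj.obj (op W)) : app f W' (rest F h s) = rest G h (app f W s) :=
  congrArg (fun t => t.hom s) (f.hom.naturality (homOfLE h).op)

theorem app_comp {F G K : CohTop.Ab X} (f : F ⟶ G) (g : G ⟶ K) (W : Opens X)
    (s : F.obj.obj (op W)) : app (f ≫ g) W s = app g W (app f W s) := rfl

theorem app_id (F : CohTop.Ab X) (W : Opens X) (s : F.obj.obj (op W)) : app (𝟙 F) W s = s := rfl

theorem app_add {F G : CohTop.Ab X} (f g : F ⟶ G) (W : Opens X) (s : F.obj.obj (op W)) :
    app (f + g) W s = app f W s + app g W s := rfl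

theorem app_zero {F G : CohTop.Ab X} (W : Opens X) (s : F.obj.obj (op W)) :
    app (0 : F ⟶ G) W s = 0 := rfl

/-- A morphism which vanishes locally on every section is zero. -/
theorem eq_zero_of_local {F G : CohTop.Ab X} (g : F ⟶ G)
    (h : ∀ (W : Opens X) (s : F.obj.obj (op W)), ∀ x ∈ W,
      ∃ (W' : Opens X) (hW : W' ≤ W), x ∈ W' ∧ app g W' (rest F hW s) = 0) : g = 0 := by
  refine Sheaf.hom_ext (NatTrans.ext (funext fun W => ?_))
  obtain ⟨W⟩ := W
  refine AddCommGrpCat.ext fun s => ?_
  choose W' hW hx h0 using fun x : W => h W s x.1 x.2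
  refine TopCat.Sheaf.eq_of_locally_eq' (F := G) W' W (fun x => homOfLE (hW x))
    (fun y hy => Opens.mem_iSup.2 ⟨⟨y, hy⟩, hx ⟨y, hy⟩⟩) _ _ fun x => ?_
  show rest G (hW x) (app g W s) = rest G (hW x) (app (0 : F ⟶ G) W s)
  rw [← app_rest, h0, app_zero, map_zero]

theorem local_preimage {F G : CohTop.Ab X} (f : F ⟶ G) [Epi f] {W : Opens X}
    (s : G.obj.obj (op W)) {x : X} (hx : x ∈ W) :
    ∃ (W' : Opens X) (hW : W' ≤ W) (t : F.obj.obj (op W')), x ∈ W' ∧ app f W' t = rest G hW s :=
  CTopVan.local_lift f inferInstance s x hx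

open scoped Classical in
/-- The restriction of the unit section to `W` when `W ≤ V`, and `0` otherwise. -/
noncomputable def rV (V W : Opens X) : (Z V).obj.obj (op W) :=
  if h : W ≤ V then rest (Z V) h (SiteBase.univSection (Opens.grothendieckTopology X) V) else 0

theorem rV_pos {V W : Opens X} (h : W ≤ V) :
    rV V W = rest (Z V) h (SiteBase.univSection (Opens.grothendieckTopology X) V) := by
  simp [rV, h]

theorem rV_neg {V W : Opens X} (h : ¬ W ≤ V) : rV V W = 0 := by
  simp [rV, h]

theorem rest_rV {V W W' : Opens X} (hW : W' ≤ W) (h : W' ≤ V → W ≤ V) :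
    rest (Z V) hW (rV V W) = rV V W' := by
  by_cases hV : W ≤ V
  · rw [rV_pos hV, rest_rest, rV_pos]
  · rw [rV_neg hV, rV_neg fun h' => hV (h h'), map_zero]

/-- The morphism out of `Z V` given by a section over `V`. -/
noncomputable abbrev hom (F : CohTop.Ab X) {V : Opens X} (s : F.obj.obj (op V)) : Z V ⟶ F :=
  (SiteBase.secEquiv (Opens.grothendieckTopology X) V F).symm s

theorem app_hom_univ (F : CohTop.Ab X) {V : Opens X} (s : F.obj.obj (op V)) :
    app (hom F s) V (SiteBase.univSection (Opens.grothendieckTopology X) V) = s :=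
  (SiteBase.secEquiv (Opens.grothendieckTopology X) V F).apply_symm_apply s

theorem app_hom_rV (F : CohTop.Ab X) {V W : Opens X} (s : F.obj.obj (op V)) (h : W ≤ V) :
    app (hom F s) W (rV V W) = rest F h s := by
  rw [rV_pos h, app_rest, app_hom_univ]

theorem hom_comp {F G : CohTop.Ab X} {V : Opens X} (s : F.obj.obj (op V)) (g : F ⟶ G) :
    hom F s ≫ g = hom G (app g V s) := SiteBase.secEquiv_symm_comp V s g

theorem hom_zero (F : CohTop.Ab X) (V : Opens X) : hom F (0 : F.obj.obj (op V)) = 0 := map_zero _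

theorem hom_ext_univ {F : CohTop.Ab X} {V : Opens X} {f g : Z V ⟶ F}
    (h : app f V (SiteBase.univSection (Opens.grothendieckTopology X) V) =
      app g V (SiteBase.univSection (Opens.grothendieckTopology X) V)) : f = g :=
  SiteBase.freeSheaf_hom_ext h

/-- Every local section of `Z V` is locally a multiple of the unit section. -/
theorem free_local (V W : Opens X) (c : (Z V).obj.obj (op W)) {x : X} (hx : x ∈ W) :
    ∃ (W' : Opens X) (hW : W' ≤ W) (m : ℤ), x ∈ W' ∧ (x ∈ V → W' ≤ V) ∧
      rest (Z V) hW c = m • rV V W' := by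
  obtain ⟨W₁, i, ⟨y, hy⟩, hx₁⟩ :=
    Presheaf.imageSieve_mem (J := Opens.grothendieckTopology X)
      (toSheafify (Opens.grothendieckTopology X) (yoneda.obj V ⋙ AddCommGrpCat.free.{u}))
      c x hx
  classical
  let W' : Opens X := if x ∈ V then W₁ ⊓ V else W₁
  have hW₁ : W' ≤ W₁ := by
    dsimp only [W']; split_ifs
    · exact inf_le_left
    · exact le_rfl
  have hxW : x ∈ W' := by
    dsimp only [W']; split_ifs with h
    · exact ⟨hx₁, h⟩
    · exact hx₁
  have hWV : x ∈ V → W' ≤ V := fun h => by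
    dsimp only [W']; rw [if_pos h]; exact inf_le_right
  have hy' : rest (Z V) (hW₁.trans i.le) c =
      rest (Z V) hW₁ (((toSheafify (Opens.grothendieckTopology X)
        (yoneda.obj V ⋙ AddCommGrpCat.free.{u})).app (op W₁)).hom y) := by
    rw [show ((toSheafify (Opens.grothendieckTopology X)
        (yoneda.obj V ⋙ AddCommGrpCat.free.{u})).app (op W₁)).hom y = rest (Z V) i.le c from hy,
      rest_rest]
  refine ⟨W', hW₁.trans i.le, ?_⟩
  simp only [hxW, true_and, hy']
  suffices key : ∀ y : FreeAbelianGroup (W₁ ⟶ V), ∃ m : ℤ,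
      rest (Z V) hW₁ (((toSheafify (Opens.grothendieckTopology X)
        (yoneda.obj V ⋙ AddCommGrpCat.free.{u})).app (op W₁)).hom y) = m • rV V W' by
    obtain ⟨m, hm⟩ := key y
    exact ⟨m, hWV, hm⟩
  intro y
  induction y using FreeAbelianGroup.induction_on with
  | zero => exact ⟨0, by rw [zero_smul]; exact (congrArg _ (map_zero _)).trans (map_zero _)⟩
  | of f =>
    refine ⟨1, ?_⟩
    rw [one_smul, rV_pos (hW₁.trans f.le)]
    have e := congrArg (fun t => t.hom (FreeAbelianGroup.of (𝟙 V)))
      ((toSheafify (Opens.grothendieckTopology X)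
        (yoneda.obj V ⋙ AddCommGrpCat.free.{u})).naturality f.op)
    have e1 : ((yoneda.obj V ⋙ AddCommGrpCat.free.{u}).map f.op).hom
        (FreeAbelianGroup.of (𝟙 V)) = FreeAbelianGroup.of (f : W₁ ⟶ V) := by
      refine (FreeAbelianGroup.map_of_apply _).trans ?_
      exact congrArg FreeAbelianGroup.of (Category.comp_id f)
    have e2 : ((toSheafify (Opens.grothendieckTopology X)
        (yoneda.obj V ⋙ AddCommGrpCat.free.{u})).app (op W₁)).hom (FreeAbelianGroup.of f) =
        rest (Z V) f.le (SiteBase.univSection (Opens.grothendieckTopology X) V) :=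
      ((congrArg _ e1.symm).trans e)
    exact (congrArg (rest (Z V) hW₁) e2).trans (rest_rest _ _ _ _)
  | neg f hf =>
    obtain ⟨m, hm⟩ := hf
    exact ⟨-m, by rw [neg_smul, ← hm]; exact (congrArg _ (map_neg _ _)).trans (map_neg _ _)⟩
  | add a b ha hb =>
    obtain ⟨m, hm⟩ := ha
    obtain ⟨k, hk⟩ := hb
    exact ⟨m + k, by rw [add_smul, ← hm, ← hk]; exact (congrArg _ (map_add _ _ _)).trans (map_add _ _ _)⟩

/-- Multiples of the unit section are detected at any point. -/
theorem eq_zero_of_smul_rV {V W : Opens X} (h : W ≤ V) {x : X} (hx : x ∈ W) {m : ℤ}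
    (hm : m • rV V W = 0) : m = 0 := by
  let P := yoneda.obj V ⋙ AddCommGrpCat.free.{u}
  let η := toSheafify (Opens.grothendieckTopology X) P
  have e : (η.app (op W)).hom (m • FreeAbelianGroup.of (homOfLE h : W ⟶ V)) =
      m • rV V W := by
    rw [rV_pos h]
    refine (map_zsmul _ m _).trans (congrArg (m • ·) ?_)
    have e' := congrArg (fun t => t.hom (FreeAbelianGroup.of (𝟙 V)))
      (η.naturality (homOfLE h).op)
    refine (congrArg (η.app (op W)).hom ?_).trans e'
    exact ((FreeAbelianGroup.map_of_apply _).trans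
      (congrArg FreeAbelianGroup.of (Category.comp_id (homOfLE h)))).symm
  obtain ⟨W', i, h0, hx'⟩ := Presheaf.equalizerSieve_mem (J := Opens.grothendieckTopology X) η
    (X := op W) (m • FreeAbelianGroup.of (homOfLE h : W ⟶ V)) 0
    (by
      refine e.trans (hm.trans ?_)
      exact (map_zero (η.app (op W)).hom).symm) x hx
  have h1 : (P.map i.op).hom (m • FreeAbelianGroup.of (homOfLE h : W ⟶ V)) = 0 :=
    h0.trans (map_zero (P.map i.op).hom)
  have h2 : (P.map i.op).hom (m • FreeAbelianGroup.of (homOfLE h : W ⟶ V)) =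
      m • FreeAbelianGroup.of (i ≫ homOfLE h : W' ⟶ V) :=
    (map_zsmul _ m _).trans (congrArg (m • ·) (FreeAbelianGroup.map_of_apply _))
  have h3 : m • (1 : ℤ) = 0 := by
    have := congrArg (FreeAbelianGroup.lift fun _ : W' ⟶ V => (1 : ℤ)) (h2.symm.trans h1)
    rw [map_zsmul, FreeAbelianGroup.lift_apply_of] at this
    exact this.trans (map_zero (FreeAbelianGroup.lift fun _ : W' ⟶ V => (1 : ℤ)))
  simpa using h3

/-- If `n * m` lies in the ideal generated by a set `S`, it lies in the one generated by the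
least common multiples of `n` with the elements of `S`. -/
theorem mem_span_lcm (n m : ℤ) (S : Set ℤ) (h : n * m ∈ Ideal.span S) :
    n * m ∈ Ideal.span ((fun a => (Int.lcm n a : ℤ)) '' S) := by
  obtain ⟨g, hg⟩ := (IsPrincipalIdealRing.principal (Ideal.span S)).principal
  have hg' : Ideal.span S = Ideal.span {g} := hg
  rw [hg', Ideal.mem_span_singleton] at h
  obtain ⟨t, ht⟩ := h
  rcases eq_or_ne g 0 with rfl | hg0
  · rw [ht, zero_mul]; exact Ideal.zero_mem _
  suffices key : ∀ y ∈ Ideal.span S, ∀ z : ℤ, y = g * z →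
      z * (n * m) ∈ Ideal.span ((fun a => (Int.lcm n a : ℤ)) '' S) by
    simpa using key g (hg' ▸ Ideal.mem_span_singleton_self g) 1 (mul_one g).symm
  intro y hy
  induction hy using Submodule.span_induction with
  | mem a ha =>
    intro z hz
    have h1 : (Int.lcm n a : ℤ) ∣ z * (n * m) := by
      refine Int.coe_lcm_dvd ?_ ?_
      · exact Dvd.dvd.mul_left (dvd_mul_right n m) z
      · rw [ht, hz, ← mul_assoc, mul_comm z g]; exact dvd_mul_right _ _
    obtain ⟨c, hc⟩ := h1
    rw [hc, mul_comm]
    exact Ideal.mul_mem_left _ c (Ideal.subset_span ⟨a, ha, rfl⟩)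
  | zero =>
    intro z hz
    rcases mul_eq_zero.1 hz.symm with h' | h'
    · exact absurd h' hg0
    · rw [h', zero_mul]; exact Ideal.zero_mem _
  | add a b ha hb iha ihb =>
    intro z hz
    have ha' : a ∈ Ideal.span {g} := hg' ▸ ha
    obtain ⟨za, rfl⟩ := Ideal.mem_span_singleton.1 ha'
    have hz' : b = g * (z - za) := by rw [mul_sub, ← hz]; ring
    have := Ideal.add_mem _ (iha za rfl) (ihb (z - za) hz')
    rwa [← add_mul, add_sub_cancel] at this
  | smul r a ha iha =>
    intro z hz
    have ha' : a ∈ Ideal.span {g} := hg' ▸ ha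
    obtain ⟨za, rfl⟩ := Ideal.mem_span_singleton.1 ha'
    have hz' : z = r * za := by
      apply mul_left_cancel₀ hg0
      rw [← hz, smul_eq_mul]; ring
    rw [hz', mul_assoc]
    exact Ideal.mul_mem_left _ r (iha za rfl)

end Groth.Agent.FreeVan98
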