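import Groth.Agent.FreeVan98.Gen

/-!
# Subsheaves of `j_! ℤ_U` and the reduction of vanishing to `j_! ℤ_U`
-/

set_option autoImplicit false

universe u

open CategoryTheory CategoryTheory.Limits Opposite TopologicalSpace

namespace Groth.Agent.FreeVan98

variable {X : TopCat.{u}}

/-- Indices: an integer and a quasi-compact open inside `U`. -/
abbrev Idx (U : Opens X) : Type u := ℤ × {V : Opens X // IsCompact (V : Set X) ∧ V ≤ U}

variable {U : Opens X}

/-- The section `n • 1` of `Z U` on `V`. -/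
noncomputable def sec (i : Idx U) : (Z U).obj.obj (op i.2.1) := i.1 • rV U i.2.1

/-- The subsheaf of `Z U` generated by finitely many multiples of unit sections. -/
noncomputable abbrev genZ (A : Finset (Idx U)) : Subobject (Z U) :=
  gen (fun i : Idx U => i.2.1) sec A

theorem app_zsmul {F G : CohTop.Ab X} (n : ℤ) (f : F ⟶ G) (W : Opens X) (s : F.obj.obj (op W)) :
    app (n • f) W s = n • app f W s :=
  map_zsmul (AddMonoidHom.mk' (fun f : F ⟶ G => app f W s) fun _ _ => rfl) n f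

theorem dvd_of_mem_span_lcm (n : ℤ) {S : Set ℤ} {a : ℤ}
    (ha : a ∈ Ideal.span ((fun b => (Int.lcm n b : ℤ)) '' S)) : n ∣ a := by
  have hle : Ideal.span ((fun b => (Int.lcm n b : ℤ)) '' S) ≤ Ideal.span {n} :=
    Ideal.span_le.2 (by rintro _ ⟨b, _, rfl⟩; exact Ideal.mem_span_singleton.2 (Int.dvd_lcm_left n b))
  exact Ideal.mem_span_singleton.1 (hle ha)

theorem app_map (V : Opens X) (hV : V ≤ U) (W : Opens X) (h : W ≤ V) :
    app (hom (Z U) (rV U V)) W (rV V W) = rV U W := by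
  rw [app_hom_rV _ _ h, rest_rV h fun _ => hV]

theorem hom_sec (i : Idx U) : hom (Z U) (sec i) = i.1 • hom (Z U) (rV U i.2.1) :=
  map_zsmul _ _ _

open scoped Classical in
theorem app_hom_sec (i : Idx U) (W : Opens X) {x : X} (hW : x ∈ W) (hiW : x ∈ i.2.1 → W ≤ i.2.1)
    (m : ℤ) : app (hom (Z U) (sec i)) W (m • rV i.2.1 W) =
      if x ∈ i.2.1 then (m * i.1) • rV U W else 0 := by
  split_ifs with h
  · rw [map_zsmul, app_hom_rV _ _ (hiW h), sec, map_zsmul,
      rest_rV (hiW h) fun _ => i.2.2.2, smul_smul]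
  · rw [rV_neg fun h' => h (h' hW), smul_zero, map_zero]

/-- Sections of `genZ A` are locally combinations of the generators. -/
theorem genZ_local (A : Finset (Idx U)) :
    ∀ (W : Opens X) (a : ((genZ A : CohTop.Ab X)).obj.obj (op W)) {x : X}, x ∈ W →
      ∃ (W' : Opens X) (hW : W' ≤ W) (k : ℤ), x ∈ W' ∧ (x ∈ U → W' ≤ U) ∧
        k ∈ Ideal.span ((fun i : Idx U => i.1) '' {i | i ∈ A ∧ x ∈ i.2.1}) ∧
        rest (Z U) hW (app (genZ A).arrow W a) = k • rV U W' := by
  classical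
  induction A using Finset.induction with
  | empty =>
    intro W a x hx
    obtain ⟨W', hW, m, hxW, hWU, -⟩ :=
      free_local U W (app (genZ (∅ : Finset (Idx U))).arrow W a) hx
    refine ⟨W', hW, 0, hxW, hWU, Ideal.zero_mem _, ?_⟩
    have : (genZ (∅ : Finset (Idx U))).arrow = 0 := by
      rw [genZ, gen, Finset.sup_empty]; exact Subobject.bot_arrow
    rw [this, app_zero, map_zero, zero_smul]
  | insert i A hi ih =>
    intro W a x hx
    have e : genZ (insert i A) = imageSubobject (hom (Z U) (sec i)) ⊔ genZ A := Finset.sup_insert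
    obtain ⟨π, hπ, hπa⟩ := exists_epi_sup (genZ A) (hom (Z U) (sec i))
    let e' := Subobject.isoOfEq _ _ e
    obtain ⟨W₁, hW₁, b, hx₁, hb⟩ := local_preimage (π ≫ e'.inv) a hx
    obtain ⟨W₂, hW₂, k, hx₂, hU₂, hk, hka⟩ :=
      ih W₁ (app (biprod.fst : (genZ A : CohTop.Ab X) ⊞ Z i.2.1 ⟶ _) W₁ b) hx₁
    obtain ⟨W₃, hW₃, m, hx₃, hV₃, hm⟩ := free_local i.2.1 W₁
      (app (biprod.snd : (genZ A : CohTop.Ab X) ⊞ Z i.2.1 ⟶ _) W₁ b) hx₁
    have h1 : (π ≫ e'.inv) ≫ (genZ (insert i A)).arrow =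
        biprod.fst ≫ (genZ A).arrow + biprod.snd ≫ hom (Z U) (sec i) := by
      rw [Category.assoc, show e'.inv ≫ (genZ (insert i A)).arrow = _ from
        Subobject.ofLE_arrow e.ge, hπa]
      exact biprod.desc_eq
    have h2 : rest (Z U) hW₁ (app (genZ (insert i A)).arrow W a) =
        app (genZ A).arrow W₁ (app biprod.fst W₁ b) +
          app (hom (Z U) (sec i)) W₁ (app biprod.snd W₁ b) := by
      rw [← app_rest, ← hb, ← app_comp, h1, app_add, app_comp, app_comp]
    have hx₂₃ : x ∈ W₂ ⊓ W₃ := ⟨hx₂, hx₃⟩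
    refine ⟨W₂ ⊓ W₃, (inf_le_left.trans hW₂).trans hW₁,
      if x ∈ i.2.1 then k + m * i.1 else k, ⟨hx₂, hx₃⟩, fun h => inf_le_left.trans (hU₂ h), ?_, ?_⟩
    · have hsub : {j : Idx U | j ∈ A ∧ x ∈ j.2.1} ⊆ {j | j ∈ insert i A ∧ x ∈ j.2.1} :=
        fun j hj => ⟨Finset.mem_insert_of_mem hj.1, hj.2⟩
      have hmono : ∀ {l : ℤ}, l ∈ Ideal.span ((fun j : Idx U => j.1) '' {j | j ∈ A ∧ x ∈ j.2.1}) →
          l ∈ Ideal.span ((fun j : Idx U => j.1) '' {j | j ∈ insert i A ∧ x ∈ j.2.1}) :=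
        fun hl => Ideal.span_mono (Set.image_mono hsub) hl
      split_ifs with h
      · exact Ideal.add_mem _ (hmono hk) (Ideal.mul_mem_left _ m
          (Ideal.subset_span (Set.mem_image_of_mem (fun j : Idx U => j.1)
            (show i ∈ {j : Idx U | j ∈ insert i A ∧ x ∈ j.2.1} from ⟨Finset.mem_insert_self _ _, h⟩))))
      · exact hmono hk
    · rw [← rest_rest _ hW₁ (inf_le_left.trans hW₂), h2, map_add]
      have ha : rest (Z U) (inf_le_left.trans hW₂) (app (genZ A).arrow W₁ (app biprod.fst W₁ b)) =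
          k • rV U (W₂ ⊓ W₃) := by
        rw [← rest_rest _ hW₂ inf_le_left, hka, map_zsmul,
          rest_rV _ fun h => hU₂ (h hx₂₃)]
      have hb' : rest (Z U) (inf_le_left.trans hW₂) (app (hom (Z U) (sec i)) W₁ (app biprod.snd W₁ b)) =
          if x ∈ i.2.1 then (m * i.1) • rV U (W₂ ⊓ W₃) else 0 := by
        rw [← app_rest, ← rest_rest (Z i.2.1) hW₃ (inf_le_right : W₂ ⊓ W₃ ≤ W₃), hm, map_zsmul,
          rest_rV _ fun h => hV₃ (h hx₂₃)]
        exact app_hom_sec i _ hx₂₃ (fun h => inf_le_right.trans (hV₃ h)) m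
      rw [ha, hb']
      split_ifs
      · rw [add_smul]
      · rw [add_zero]

theorem shortExact_kernel {A B : CohTop.Ab X} (f : A ⟶ B) [Epi f] :
    (ShortComplex.mk (kernel.ι f) f (kernel.condition f)).ShortExact :=
  { exact := ShortComplex.exact_kernel f }

theorem van_biprod {d : ℕ} {A B : CohTop.Ab X} (hA : Van d A) (hB : Van d B) : Van d (A ⊞ B) :=
  Van.ext (ShortComplex.Splitting.ofHasBinaryBiproduct A B).shortExact hA hB

/-- The index of the intersection generator. -/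
noncomputable def meet [QuasiSeparatedSpace X] (i a : Idx U) : Idx U :=
  ((Int.lcm i.1 a.1 : ℤ) / i.1,
    ⟨i.2.1 ⊓ a.2.1,
      QuasiSeparatedSpace.inter_isCompact _ _ i.2.1.2 i.2.2.1 a.2.1.2 a.2.2.1,
      inf_le_left.trans i.2.2.2⟩)

theorem mono_unit {V : Opens X} (hV : V ≤ U) : Mono (hom (Z U) (rV U V)) := by
  have : hom (Z U) (rV U V) = CohCx.freeSheafMap (Opens.grothendieckTopology X) (homOfLE hV) :=
    hom_ext_univ (by
      rw [app_hom_univ, rV_pos hV]
      exact (SiteBase.freeSheafMap_univSection (homOfLE hV)).symm)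
  rw [this]; infer_instance

theorem hom_unit_comp {V V' : Opens X} (h : V ≤ V') (hV' : V' ≤ U) :
    hom (Z V') (rV V' V) ≫ hom (Z U) (rV U V') = hom (Z U) (rV U V) := by
  rw [hom_comp]
  exact congrArg (hom (Z U)) (app_map V' hV' V h)

/-- A morphism killing the intersection generators kills the combinations at the point. -/
theorem kill_span [QuasiSeparatedSpace X] (i : Idx U) (hi : i.1 ≠ 0) (A : Finset (Idx U))
    {T : CohTop.Ab X} (g : Z U ⟶ T) (hg : ∀ a ∈ A, app g (meet i a).2.1 (sec (meet i a)) = 0)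
    {x : X} (hx : x ∈ i.2.1) (y : ℤ)
    (hy : y ∈ Ideal.span ((fun a => (Int.lcm i.1 a : ℤ)) ''
      ((fun a : Idx U => a.1) '' {a | a ∈ A ∧ x ∈ a.2.1}))) :
    ∀ z : ℤ, y = i.1 * z → ∃ W : Opens X, x ∈ W ∧ W ≤ i.2.1 ∧ app g W (z • rV U W) = 0 := by
  induction hy using Submodule.span_induction with
  | mem y hy =>
    simp only [Set.mem_image] at hy
    obtain ⟨l, ⟨a, ⟨ha, hxa⟩, hal⟩, hly⟩ := hy
    subst hal
    intro z hz
    have hz' : z = (meet i a).1 := by
      show z = (Int.lcm i.1 a.1 : ℤ) / i.1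
      rw [hly, hz, Int.mul_ediv_cancel_left _ hi]
    refine ⟨(meet i a).2.1, ⟨hx, hxa⟩, inf_le_left, ?_⟩
    rw [hz']
    exact hg a ha
  | zero =>
    intro z hz
    refine ⟨i.2.1, hx, le_rfl, ?_⟩
    rw [(mul_eq_zero.1 hz.symm).resolve_left hi, zero_smul, map_zero]
  | add a b ha hb iha ihb =>
    intro z hz
    obtain ⟨za, hza⟩ := dvd_of_mem_span_lcm i.1 ha
    obtain ⟨zb, hzb⟩ := dvd_of_mem_span_lcm i.1 hb
    obtain ⟨Wa, hxa, hWa, ea⟩ := iha za hza
    obtain ⟨Wb, hxb, hWb, eb⟩ := ihb zb hzb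
    refine ⟨Wa ⊓ Wb, ⟨hxa, hxb⟩, inf_le_left.trans hWa, ?_⟩
    have hz' : z = za + zb := mul_left_cancel₀ hi (by rw [← hz, mul_add, hza, hzb])
    have ea' := congrArg (rest T (inf_le_left : Wa ⊓ Wb ≤ Wa)) ea
    have eb' := congrArg (rest T (inf_le_right : Wa ⊓ Wb ≤ Wb)) eb
    rw [map_zero, ← app_rest, map_zsmul (rest (Z U) _),
      rest_rV _ fun _ => hWa.trans i.2.2.2] at ea'
    rw [map_zero, ← app_rest, map_zsmul (rest (Z U) _),
      rest_rV _ fun _ => hWb.trans i.2.2.2] at eb'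
    rw [hz', add_smul, map_add, ea', eb', add_zero]
  | smul r a ha iha =>
    intro z hz
    obtain ⟨za, hza⟩ := dvd_of_mem_span_lcm i.1 ha
    obtain ⟨Wa, hxa, hWa, ea⟩ := iha za hza
    refine ⟨Wa, hxa, hWa, ?_⟩
    have hz' : z = r * za := mul_left_cancel₀ hi (by rw [← hz, smul_eq_mul, hza]; ring)
    rw [hz', mul_smul, map_zsmul, ea, smul_zero]

section Step

variable [QuasiSeparatedSpace X] (i : Idx U) (A : Finset (Idx U)) {P : CohTop.Ab X}
  (π : (genZ A : CohTop.Ab X) ⊞ Z i.2.1 ⟶ P)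

/-- The kernel maps into `Z U`. -/
noncomputable def kerMap : kernel π ⟶ Z U :=
  kernel.ι π ≫ biprod.snd ≫ hom (Z U) (rV U i.2.1)

variable (q : P ⟶ Z U) (hπ : π ≫ q =
  biprod.fst ≫ (genZ A).arrow + biprod.snd ≫ (i.1 • hom (Z U) (rV U i.2.1)))

include hπ in
theorem kerMap_rel : kernel.ι π ≫ biprod.fst ≫ (genZ A).arrow + i.1 • kerMap i A π = 0 := by
  have : kernel.ι π ≫ (biprod.fst ≫ (genZ A).arrow +
      biprod.snd ≫ (i.1 • hom (Z U) (rV U i.2.1))) = 0 := by
    rw [← hπ, kernel.condition_assoc, zero_comp]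
  rw [Preadditive.comp_add, Preadditive.comp_zsmul, Preadditive.comp_zsmul] at this
  exact this

include hπ in
theorem mono_kerMap : Mono (kerMap i A π) :=
  Preadditive.mono_of_cancel_zero _ fun {R} g hg => by
    haveI := mono_unit (U := U) i.2.2.2
    have h2 : (g ≫ kernel.ι π) ≫ biprod.snd = 0 :=
      zero_of_comp_mono (hom (Z U) (rV U i.2.1)) (by rw [Category.assoc, Category.assoc]; exact hg)
    have h1 : (g ≫ kernel.ι π) ≫ biprod.fst = 0 := by
      have := congrArg (g ≫ ·) (kerMap_rel i A π q hπ)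
      simp only [Preadditive.comp_add, Preadditive.comp_zsmul, comp_zero, hg, smul_zero,
        add_zero] at this
      rw [← cancel_mono (genZ A).arrow, zero_comp, Category.assoc, Category.assoc]
      exact this
    rw [← cancel_mono (kernel.ι π), zero_comp]
    exact biprod.hom_ext _ _ (by rw [h1, zero_comp]) (by rw [h2, zero_comp])

include hπ in
theorem kerMap_kill (hi : i.1 ≠ 0) {T : CohTop.Ab X} (g : Z U ⟶ T)
    (hg : ∀ a ∈ A, app g (meet i a).2.1 (sec (meet i a)) = 0) : kerMap i A π ≫ g = 0 := by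
  refine eq_zero_of_local _ fun W s x hx => ?_
  obtain ⟨W₁, hW₁, k, hx₁, hU₁, hk, hka⟩ :=
    genZ_local A W (app (kernel.ι π ≫ biprod.fst) W s) hx
  obtain ⟨W₂, hW₂, m, hx₂, hV₂, hm⟩ :=
    free_local i.2.1 W (app (kernel.ι π ≫ biprod.snd) W s) hx
  have hW' : W₁ ⊓ W₂ ≤ W := inf_le_left.trans hW₁
  have hxW : x ∈ W₁ ⊓ W₂ := ⟨hx₁, hx₂⟩
  have hj : rest (Z U) hW' (app (kerMap i A π) W s) =
      app (hom (Z U) (rV U i.2.1)) (W₁ ⊓ W₂) (m • rV i.2.1 (W₁ ⊓ W₂)) := by
    rw [show kerMap i A π = (kernel.ι π ≫ biprod.snd) ≫ hom (Z U) (rV U i.2.1) from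
        (Category.assoc _ _ _).symm, app_comp, ← app_rest,
      ← rest_rest _ hW₂ (inf_le_right : W₁ ⊓ W₂ ≤ W₂), hm, map_zsmul (rest (Z i.2.1) _),
      rest_rV _ fun h => hV₂ (h hxW)]
  by_cases hxV : x ∈ i.2.1
  swap
  · refine ⟨W₁ ⊓ W₂, hW', hxW, ?_⟩
    rw [app_comp, app_rest, hj, rV_neg fun h => hxV (h hxW), smul_zero, map_zero, map_zero]
  have hWV : W₁ ⊓ W₂ ≤ i.2.1 := inf_le_right.trans (hV₂ hxV)
  rw [map_zsmul, app_map i.2.1 i.2.2.2 _ hWV] at hj
  have hsum : (k + i.1 * m) • rV U (W₁ ⊓ W₂) = 0 := by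
    have e1 : rest (Z U) hW' (app (genZ A).arrow W (app (kernel.ι π ≫ biprod.fst) W s)) =
        k • rV U (W₁ ⊓ W₂) := by
      rw [← rest_rest _ hW₁ (inf_le_left : W₁ ⊓ W₂ ≤ W₁), hka, map_zsmul,
        rest_rV _ fun h => hU₁ (h hxW)]
    have := congrArg (fun t => rest (Z U) hW' (app t W s)) (kerMap_rel i A π q hπ)
    simp only [app_add, app_zero, map_add, map_zero, app_zsmul, map_zsmul, hj] at this
    rw [← Category.assoc, app_comp, e1, smul_smul, ← add_smul] at this
    exact this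
  have hkn := eq_zero_of_smul_rV (hWV.trans i.2.2.2) hxW hsum
  have hmem : i.1 * m ∈ Ideal.span ((fun a : Idx U => a.1) '' {a | a ∈ A ∧ x ∈ a.2.1}) := by
    rw [show i.1 * m = -k by omega]
    exact neg_mem hk
  obtain ⟨W', hxW', hWi, e'⟩ :=
    kill_span i hi A g hg hxV _ (mem_span_lcm i.1 m _ hmem) m rfl
  refine ⟨W' ⊓ (W₁ ⊓ W₂), inf_le_right.trans hW', ⟨hxW', hxW⟩, ?_⟩
  have h' := congrArg (rest T (inf_le_left : W' ⊓ (W₁ ⊓ W₂) ≤ W')) e'
  rw [map_zero, ← app_rest, map_zsmul (rest (Z U) _),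
    rest_rV _ fun _ => hWi.trans i.2.2.2] at h'
  rw [app_comp, app_rest, ← rest_rest _ hW' inf_le_right, hj, map_zsmul,
    rest_rV _ fun _ => hWV.trans i.2.2.2, h']

variable [Mono q]

include hπ in
theorem exists_lift (a : Idx U) (ha : a ∈ A) :
    ∃ l : Z (meet i a).2.1 ⟶ kernel π, l ≫ kerMap i A π = hom (Z U) (sec (meet i a)) := by
  obtain ⟨d', hd'⟩ := Int.dvd_lcm_right i.1 a.1
  have hc : i.1 * (meet i a).1 = a.1 * d' :=
    (Int.mul_ediv_cancel' (Int.dvd_lcm_left i.1 a.1)).trans hd'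
  let b' : Z (meet i a).2.1 ⟶ Z i.2.1 := (meet i a).1 • hom (Z i.2.1) (rV i.2.1 (meet i a).2.1)
  have hle : im (sec a) ≤ genZ A := Finset.le_sup (f := fun i : Idx U => im (sec i)) ha
  let a' : Z (meet i a).2.1 ⟶ (genZ A : CohTop.Ab X) :=
    -(d' • (hom (Z a.2.1) (rV a.2.1 (meet i a).2.1) ≫
      factorThruImageSubobject (hom (Z U) (sec a)) ≫
        Subobject.ofLE _ _ hle))
  have hamap : a' ≫ (genZ A).arrow = -((a.1 * d') • hom (Z U) (rV U (meet i a).2.1)) := by
    simp only [a', Preadditive.neg_comp, Preadditive.zsmul_comp, Category.assoc]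
    rw [Subobject.ofLE_arrow]
    rw [imageSubobject_arrow_comp, hom_sec, Preadditive.comp_zsmul, smul_smul, mul_comm d']
    rw [hom_unit_comp (show (meet i a).2.1 ≤ a.2.1 from inf_le_right) a.2.2.2]
  refine ⟨kernel.lift π (biprod.lift a' b') ?_, ?_⟩
  · rw [← cancel_mono q, zero_comp, Category.assoc, hπ, Preadditive.comp_add,
      biprod.lift_fst_assoc, biprod.lift_snd_assoc, hamap]
    simp only [b', Preadditive.zsmul_comp, Preadditive.comp_zsmul]
    rw [hom_unit_comp (show (meet i a).2.1 ≤ i.2.1 from inf_le_left) i.2.2.2, smul_smul, hc, neg_add_cancel]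
  · rw [kerMap, kernel.lift_ι_assoc, biprod.lift_snd_assoc, hom_sec]
    simp only [b', Preadditive.zsmul_comp]
    rw [hom_unit_comp (show (meet i a).2.1 ≤ i.2.1 from inf_le_left) i.2.2.2]

end Step

variable [PrespectralSpace X] [QuasiSeparatedSpace X] {d : ℕ}
  (h : ∀ U : Opens X, IsCompact (U : Set X) → Van d (Z U))

include h in
omit [PrespectralSpace X] in
theorem van_genZ (A : Finset (Idx U)) : Van d (genZ A : CohTop.Ab X) := by
  classical
  induction hn : A.card using Nat.strong_induction_on generalizing A with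
  | _ N ih =>
  rcases A.eq_empty_or_nonempty with rfl | ⟨i, hi⟩
  · rw [genZ, gen, Finset.sup_empty]
    exact Van.of_isZero ((isZero_zero _).of_iso Subobject.botCoeIsoZero)
  obtain ⟨A', rfl, hiA'⟩ : ∃ A', insert i A' = A ∧ i ∉ A' :=
    ⟨A.erase i, Finset.insert_erase hi, Finset.notMem_erase i A⟩
  have hcard : A'.card < N := by rw [← hn, Finset.card_insert_of_notMem hiA']; exact Nat.lt_succ_self _
  have e : genZ (insert i A') = imageSubobject (hom (Z U) (sec i)) ⊔ genZ A' := Finset.sup_insert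
  rw [e]
  by_cases hn0 : i.1 = 0
  · rw [hom_sec, hn0, zero_smul, imageSubobject_zero, bot_sup_eq]
    exact ih _ hcard A' rfl
  obtain ⟨π, hπ, hπa⟩ := exists_epi_sup (genZ A') (hom (Z U) (sec i))
  refine Van.cok (shortExact_kernel π) ?_ (van_biprod (ih _ hcard A' rfl) (h _ i.2.2.1))
  have hdesc : π ≫ (imageSubobject (hom (Z U) (sec i)) ⊔ genZ A').arrow =
      biprod.fst ≫ (genZ A').arrow + biprod.snd ≫ (i.1 • hom (Z U) (rV U i.2.1)) := by
    rw [hπa, hom_sec]; exact biprod.desc_eq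
  haveI := mono_kerMap i A' π _ hdesc
  have key : Subobject.mk (kerMap i A' π) = genZ (A'.image (meet i)) := by
    refine le_antisymm (le_of_kill _ _ fun {T} g hg => ?_) (Finset.sup_le fun b hb => ?_)
    · rw [← Subobject.underlyingIso_hom_comp_eq_mk, Category.assoc,
        kerMap_kill i A' π _ hdesc hn0 g (fun a ha => app_eq_zero_of_im_le _
          (Finset.le_sup (f := fun i : Idx U => im (sec i)) (Finset.mem_image_of_mem _ ha)) g hg),
        comp_zero]
    · obtain ⟨a, ha, rfl⟩ := Finset.mem_image.1 hb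
      obtain ⟨l, hl⟩ := exists_lift i A' π _ hdesc a ha
      exact imageSubobject_le_mk _ _ l hl
  exact Van.of_iso (Subobject.underlyingIso _)
    (key ▸ ih _ (lt_of_le_of_lt Finset.card_image_le hcard) _ rfl)

variable [CompactSpace X]

include h in
/-- Every subsheaf of `Z U` has vanishing cohomology. -/
theorem van_of_mono {F : CohTop.Ab X} (j : F ⟶ Z U) [Mono j] : Van d F := by
  classical
  let I := {i : Idx U // im (sec i) ≤ Subobject.mk j}
  refine Van.of_iso (Subobject.underlyingIso j)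
    (van_of_gen (fun a : I => a.1.2.1) (fun a => sec a.1) (Subobject.mk j) (fun a => a.2)
      (fun {T} g hg => ?_) fun A => ?_)
  · rw [← Subobject.underlyingIso_hom_comp_eq_mk, Category.assoc]
    suffices hjg : j ≫ g = 0 by rw [hjg, comp_zero]
    refine eq_zero_of_local _ fun W s x hx => ?_
    obtain ⟨W₁, hW₁, k, hx₁, hU₁, hk⟩ := free_local U W (app j W s) hx
    by_cases hxU : x ∈ U
    swap
    · refine ⟨W₁, hW₁, hx₁, ?_⟩
      rw [app_comp, app_rest, hk, rV_neg fun h => hxU (h hx₁), smul_zero, map_zero]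
    obtain ⟨B, ⟨hBo, hBc⟩, hxB, hBW⟩ :=
      PrespectralSpace.isTopologicalBasis.exists_subset_of_mem_open hx₁ W₁.2
    have hB1 : (⟨B, hBo⟩ : Opens X) ≤ W₁ := hBW
    let i : Idx U := (k, ⟨⟨B, hBo⟩, hBc, hB1.trans (hU₁ hxU)⟩)
    refine ⟨⟨B, hBo⟩, hB1.trans hW₁, hxB, ?_⟩
    have hi : app j i.2.1 (rest F (hB1.trans hW₁) s) = sec i := by
      rw [app_rest, ← rest_rest _ hW₁ hB1, hk, map_zsmul, rest_rV _ fun _ => hU₁ hxU]
      rfl
    have hiI : im (sec i) ≤ Subobject.mk j :=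
      imageSubobject_le_mk _ _ (hom F (rest F (hB1.trans hW₁) s)) (by rw [hom_comp, hi])
    exact (congrArg (app g i.2.1) hi).trans (hg ⟨i, hiI⟩)
  · have e : gen (fun a : I => a.1.2.1) (fun a => sec a.1) A =
        genZ (A.map (Function.Embedding.subtype _)) := by
      simp only [genZ, gen, Finset.sup_map]
      rfl
    rw [e]
    exact van_genZ h _

include h in
/-- Cohomology vanishes above `d` for every sheaf. -/
theorem van_all (F : CohTop.Ab X) : Van d F := by
  classical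
  let I := Σ V : {V : Opens X // IsCompact (V : Set X)}, F.obj.obj (op V.1)
  refine Van.of_iso (asIso (⊤ : Subobject F).arrow)
    (van_of_gen (fun a : I => a.1.1) (fun a => a.2) ⊤ (fun _ => le_top) (fun {T} g hg => ?_)
      fun A => ?_)
  · suffices hg0 : g = 0 by rw [hg0, comp_zero]
    refine eq_zero_of_local g fun W s x hx => ?_
    obtain ⟨B, ⟨hBo, hBc⟩, hxB, hBW⟩ :=
      PrespectralSpace.isTopologicalBasis.exists_subset_of_mem_open hx W.2
    exact ⟨⟨B, hBo⟩, hBW, hxB, hg ⟨⟨⟨B, hBo⟩, hBc⟩, rest F hBW s⟩⟩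
  · induction A using Finset.induction with
    | empty =>
      rw [gen, Finset.sup_empty]
      exact Van.of_isZero ((isZero_zero _).of_iso Subobject.botCoeIsoZero)
    | insert a A ha ih =>
      rw [gen, Finset.sup_insert]
      obtain ⟨π, hπ, hπa⟩ := exists_epi_sup (gen (fun a : I => a.1.1) (fun a => a.2) A)
        (hom F a.2)
      let K := gen (fun a : I => a.1.1) (fun a => a.2) A
      let E := imageSubobject (hom F a.2) ⊔ K
      let ι' := Subobject.ofLE K E le_sup_right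
      have hinl : biprod.inl ≫ π = ι' := by
        rw [← cancel_mono E.arrow, Category.assoc, hπa, biprod.inl_desc, Subobject.ofLE_arrow]
      haveI : Epi (biprod.inr ≫ π ≫ cokernel.π ι') :=
        Preadditive.epi_of_cancel_zero _ fun {R} g hg => by
          rw [← cancel_epi (cokernel.π ι'), ← cancel_epi π, comp_zero, comp_zero]
          refine biprod.hom_ext' _ _ ?_ ?_
          · rw [← Category.assoc biprod.inl, hinl, cokernel.condition_assoc, zero_comp, comp_zero]
          · rw [comp_zero]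
            simpa only [Category.assoc] using hg
      have hQ : Van d (cokernel ι') :=
        Van.cok (shortExact_kernel (biprod.inr ≫ π ≫ cokernel.π ι'))
          (van_of_mono h (kernel.ι _)) (h _ a.1.2)
      exact Van.ext
        (S := ShortComplex.mk ι' (cokernel.π ι') (cokernel.condition ι'))
        { exact := ShortComplex.exact_cokernel ι' } ih hQ

end Groth.Agent.FreeVan98
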